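import Mathlib.CategoryTheory.Sites.SheafCohomology.Cech
import Mathlib.CategoryTheory.Limits.Shapes.ConcreteCategory
import Mathlib.Algebra.Category.Grp.Abelian
import Mathlib.Algebra.Category.Grp.Limits
import Mathlib.Algebra.Homology.ShortComplex.Ab
import Mathlib.Algebra.Homology.ShortComplex.HomologicalComplex
import Mathlib.Data.Fin.Parity

/-!
# The Čech complex of one object: augmented coordinates and the extra degeneracy
-/

set_option autoImplicit false
set_option backward.isDefEq.respectTransparency false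
set_option linter.unusedSectionVars false

universe w v u

open CategoryTheory CategoryTheory.Limits Opposite

noncomputable section

namespace Groth.Agent.AdeqAmitsur

variable {C : Type u} [Category.{v} C] [HasFiniteProducts C] (U : C)

/-- The powers of `U`. -/
abbrev O (m : ℕ) : C := ∏ᶜ fun _ : Fin m => U

/-- The projections. -/
abbrev π {m : ℕ} (j : Fin m) : O U m ⟶ U := Pi.π (fun _ : Fin m => U) j

/-- The face maps. -/
def face (m : ℕ) (i : Fin (m + 1)) : O U (m + 1) ⟶ O U m :=
  Pi.lift fun j => π U (i.succAbove j)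

theorem face_π (m : ℕ) (i : Fin (m + 1)) (j : Fin m) : face U m i ≫ π U j = π U (i.succAbove j) :=
  Pi.lift_π _ _

theorem face_face (m : ℕ) (i : Fin (m + 2)) (j : Fin (m + 1)) :
    face U (m + 1) (i.succAbove j) ≫ face U m (j.predAbove i) = face U (m + 1) i ≫ face U m j := by
  refine Pi.hom_ext _ _ fun k => ?_
  rw [Category.assoc, Category.assoc, face_π, face_π, face_π, face_π,
    Fin.succAbove_succAbove_succAbove_predAbove]

section Differential

variable (P : Cᵒᵖ ⥤ AddCommGrpCat.{w})

/-- Transition maps of a presheaf. -/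
abbrev pm {X Y : C} (f : Y ⟶ X) : P.obj (op X) →+ P.obj (op Y) := (P.map f.op).hom

theorem pm_comp {X Y Z : C} (f : Y ⟶ X) (g : Z ⟶ Y) (c : P.obj (op X)) :
    pm P (g ≫ f) c = pm P g (pm P f c) :=
  CategoryTheory.congr_fun (P.map_comp f.op g.op) c

theorem pm_id {X : C} (c : P.obj (op X)) : pm P (𝟙 X) c = c :=
  CategoryTheory.congr_fun (P.map_id (op X)) c

/-- The differential of the augmented complex. -/
def D (m : ℕ) : P.obj (op (O U m)) →+ P.obj (op (O U (m + 1))) :=
  ∑ i : Fin (m + 1), ((-1 : ℤ) ^ (i : ℕ)) • pm P (face U m i)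

theorem D_apply (m : ℕ) (c : P.obj (op (O U m))) :
    D U P m c = ∑ i : Fin (m + 1), ((-1 : ℤ) ^ (i : ℕ)) • pm P (face U m i) c := by
  simp [D, AddMonoidHom.finsetSum_apply, AddMonoidHom.smul_apply]

theorem D_D (m : ℕ) (c : P.obj (op (O U m))) : D U P (m + 1) (D U P m c) = 0 := by
  rw [D_apply U P (m + 1)]
  simp only [D_apply, map_sum, map_zsmul, Finset.smul_sum, smul_smul, ← pm_comp, ← pow_add]
  rw [← Fintype.sum_prod_type']
  refine Finset.sum_involution (fun p _ => (p.1.succAbove p.2, p.2.predAbove p.1))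
    (fun p _ => ?_) (fun p _ _ h => ?_) (fun _ _ => Finset.mem_univ _) (fun p _ => ?_)
  · dsimp only
    rw [face_face, Fin.neg_one_pow_succAbove_add_predAbove, neg_smul, add_neg_cancel]
  · exact Fin.succAbove_ne _ _ (congrArg Prod.fst h)
  · refine Prod.ext ?_ ?_
    · exact Fin.succAbove_succAbove_predAbove p.1 p.2
    · exact Fin.predAbove_predAbove_succAbove p.1 p.2

variable {P} {Q : Cᵒᵖ ⥤ AddCommGrpCat.{w}} (φ : P ⟶ Q)

theorem pm_nat {X Y : C} (f : Y ⟶ X) (c : P.obj (op X)) :
    (φ.app (op Y)).hom (pm P f c) = pm Q f ((φ.app (op X)).hom c) :=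
  CategoryTheory.congr_fun (φ.naturality f.op) c

theorem D_nat (m : ℕ) (c : P.obj (op (O U m))) :
    (φ.app _).hom (D U P m c) = D U Q m ((φ.app _).hom c) := by
  simp only [D_apply, map_sum, map_zsmul, pm_nat]

variable (P) in
/-- Exactness in degree `m + 1` of the augmented complex. -/
def ExactD (m : ℕ) : Prop :=
  ∀ c : P.obj (op (O U (m + 1))), D U P (m + 1) c = 0 → ∃ b, D U P m b = c

theorem exactD_of_bijective (hφ : ∀ m, Function.Bijective (φ.app (op (O U m))).hom) {m : ℕ}
    (h : ExactD U Q m) : ExactD U P m := by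
  intro c hc
  obtain ⟨b, hb⟩ := h ((φ.app _).hom c) (by rw [← D_nat, hc, map_zero])
  obtain ⟨a, rfl⟩ := (hφ m).2 b
  exact ⟨a, (hφ (m + 1)).1 ((D_nat U φ m a).trans hb)⟩

end Differential

section Shift

/-- The functor `V ↦ V ⨯ U`. -/
abbrev times : C ⥤ C where
  obj V := V ⨯ U
  map f := prod.map f (𝟙 U)

/-- The presheaf `V ↦ P (V ⨯ U)`. -/
abbrev shift (P : Cᵒᵖ ⥤ AddCommGrpCat.{w}) : Cᵒᵖ ⥤ AddCommGrpCat.{w} := (times U).op ⋙ P

/-- The extra degeneracy. -/
def deg (m : ℕ) : O U m ⨯ U ⟶ O U (m + 1) ⨯ U :=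
  prod.lift (Pi.lift (Fin.cases prod.snd fun j => prod.fst ≫ π U j)) prod.snd

theorem deg_face_zero (m : ℕ) : deg U m ≫ (times U).map (face U m 0) = 𝟙 _ := by
  refine Limits.prod.hom_ext ?_ ?_
  · refine Pi.hom_ext _ _ fun j => ?_
    simp [deg, face, Category.assoc]
  · simp [deg]

theorem deg_face_succ (m : ℕ) (i : Fin (m + 1)) :
    deg U (m + 1) ≫ (times U).map (face U (m + 1) i.succ) = (times U).map (face U m i) ≫ deg U m := by
  refine Limits.prod.hom_ext ?_ ?_
  · refine Pi.hom_ext _ _ fun j => ?_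
    induction j using Fin.cases with
    | zero => simp [deg, face, Category.assoc]
    | succ k => simp [deg, face, Category.assoc]
  · simp [deg]

theorem exactD_shift (P : Cᵒᵖ ⥤ AddCommGrpCat.{w}) (m : ℕ) : ExactD U (shift U P) m := by
  intro c hc
  refine ⟨pm P (deg U m) c, ?_⟩
  have h := congrArg (pm P (deg U (m + 1))) hc
  rw [map_zero, D_apply, map_sum, Fin.sum_univ_succ] at h
  have e0 : pm P (deg U (m + 1)) (pm (shift U P) (face U (m + 1) 0) c) = c := by
    refine (pm_comp P _ _ c).symm.trans ?_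
    exact (congrArg (fun f => pm P f c) (deg_face_zero U (m + 1))).trans (pm_id P c)
  have e : ∀ i : Fin (m + 1), pm P (deg U (m + 1)) (pm (shift U P) (face U (m + 1) i.succ) c) =
      pm (shift U P) (face U m i) (pm P (deg U m) c) := fun i => by
    refine (pm_comp P _ _ c).symm.trans ?_
    exact (congrArg (fun f => pm P f c) (deg_face_succ U m i)).trans (pm_comp P _ _ c)
  simp only [map_zsmul, Fin.val_zero, pow_zero, one_zsmul, Fin.val_succ, pow_succ, mul_neg,
    mul_one, neg_smul, map_neg] at h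
  rw [Finset.sum_congr rfl (fun i _ => congrArg (fun t => -((-1 : ℤ) ^ (Fin.val i) • t)) (e i)), e0,
    Finset.sum_neg_distrib, add_neg_eq_zero] at h
  exact (D_apply U (shift U P) m _).trans h.symm

end Shift

section Complex

/-- Sums of morphisms of groups are computed pointwise. -/
theorem hom_sum_apply {M N : AddCommGrpCat.{w}} {β : Type*} (s : Finset β) (f : β → (M ⟶ N)) (x : M) :
    (∑ b ∈ s, f b).hom x = ∑ b ∈ s, (f b).hom x :=
  map_sum ((AddMonoidHom.eval x).comp (AddCommGrpCat.homAddEquiv (M := M) (N := N)).toAddMonoidHom) f s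

variable {ι : Type w} [Unique ι] (P : Cᵒᵖ ⥤ AddCommGrpCat.{w})

/-- The coordinate of a cochain. -/
abbrev coord (n : ℕ) :
    ((cechComplexFunctor (A := AddCommGrpCat.{w}) (fun _ : ι => U)).obj P).X n ⟶ P.obj (op (O U (n + 1))) :=
  Pi.π (fun _ : Fin (n + 1) → ι => P.obj (op (O U (n + 1)))) (fun _ => default)

theorem coord_bijective (n : ℕ) : Function.Bijective (coord U (ι := ι) P n).hom := by
  let e := Concrete.productEquiv (fun _ : Fin (n + 1) → ι => P.obj (op (O U (n + 1))))
  refine ⟨fun c c' h => e.injective (funext fun a => ?_), fun y => ⟨e.symm fun _ => y, ?_⟩⟩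
  · obtain rfl : a = fun _ => default := Subsingleton.elim _ _
    exact ((Concrete.productEquiv_apply_apply _ c _).trans h).trans
      (Concrete.productEquiv_apply_apply _ c' _).symm
  · exact Concrete.productEquiv_symm_apply_π _ _ _

theorem d_coord (n : ℕ) :
    ((cechComplexFunctor (A := AddCommGrpCat.{w}) (fun _ : ι => U)).obj P).d n (n + 1) ≫ coord U P (n + 1) =
      ∑ i : Fin (n + 2), ((-1 : ℤ) ^ (i : ℕ)) • (coord U P n ≫ P.map (face U (n + 1) i).op) := by
  simp only [cechComplexFunctor, FormalCoproduct.cochainComplexFunctor,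
    Functor.comp_obj, AlgebraicTopology.alternatingCofaceMapComplex,
    AlgebraicTopology.AlternatingCofaceMapComplex.obj, CochainComplex.of_d,
    AlgebraicTopology.AlternatingCofaceMapComplex.objD, Preadditive.sum_comp,
    Preadditive.zsmul_comp]
  refine Finset.sum_congr rfl fun i _ => ?_
  congr 1
  exact Pi.lift_π _ _

theorem coord_d (n : ℕ) (c : ((cechComplexFunctor (A := AddCommGrpCat.{w}) (fun _ : ι => U)).obj P).X n) :
    (coord U P (n + 1)).hom
        ((((cechComplexFunctor (A := AddCommGrpCat.{w}) (fun _ : ι => U)).obj P).d n (n + 1)).hom c) =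
      D U P (n + 1) ((coord U P n).hom c) := by
  have h := DFunLike.congr_fun (congrArg AddCommGrpCat.Hom.hom (d_coord U (ι := ι) P n)) c
  simp only [AddCommGrpCat.hom_comp, AddMonoidHom.comp_apply] at h
  rw [h, D_apply, hom_sum_apply]
  rfl

theorem exactAt_of_exactD (n : ℕ) (h : ExactD U P (n + 1)) :
    ((cechComplexFunctor (A := AddCommGrpCat.{w}) (fun _ : ι => U)).obj P).ExactAt (n + 1) := by
  rw [HomologicalComplex.exactAt_iff' _ n (n + 1) (n + 2) (CochainComplex.prev_nat_succ n)
    (CochainComplex.next _ _), ShortComplex.ab_exact_iff]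
  intro x hx
  obtain ⟨b, hb⟩ := h ((coord U (ι := ι) P (n + 1)).hom x) (by
    rw [← coord_d U (ι := ι) P]
    exact (congrArg _ hx).trans (map_zero _))
  obtain ⟨a, rfl⟩ := (coord_bijective U (ι := ι) P n).2 b
  exact ⟨a, (coord_bijective U P (n + 1)).1 ((coord_d U P n a).trans hb)⟩

end Complex

end Groth.Agent.AdeqAmitsur
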