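import Groth.Agent.AdeqAmitsur.Gamma
import Groth.Agent.AdeqSite.FFExact
import Groth.Agent.AdeqLib.ChangeRing
import Groth.Agent.AdeqLib.Pw

/-!
# Exactness of the Amitsur complex of an adequate functor
-/

set_option autoImplicit false
set_option backward.isDefEq.respectTransparency false
set_option linter.unusedSectionVars false

universe w v u

open CategoryTheory CategoryTheory.Limits AlgebraicGeometry Opposite TensorProduct

noncomputable section

namespace Groth.Agent.AdeqAmitsur

open Groth.Agent.AdeqLib Groth.Agent.AdeqSite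

section Generic

variable {C : Type u} [Category.{v} C] [HasFiniteProducts C] (U : C)
variable {P P' Q : Cᵒᵖ ⥤ AddCommGrpCat.{w}} (i : P ⟶ P') (p : P' ⟶ Q)

theorem D_zero_apply (c : P.obj (op (O U 0))) : D U P 0 c = pm P (face U 0 0) c := by
  simp [D_apply]

theorem injective_D_zero_of_mono (hi : ∀ m, Function.Injective (i.app (op (O U m))).hom)
    (h : Function.Injective (D U P' 0)) : Function.Injective (D U P 0) :=
  fun x y hxy => hi 0 (h (by rw [← D_nat, ← D_nat, hxy]))

theorem injective_D_zero_shift (P : Cᵒᵖ ⥤ AddCommGrpCat.{w}) : Function.Injective (D U (shift U P) 0) := by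
  refine Function.LeftInverse.injective (g := pm P (deg U 0)) fun c => ?_
  rw [D_zero_apply]
  refine (pm_comp P _ _ c).symm.trans ?_
  exact (congrArg (fun f => pm P f c) (deg_face_zero U 0)).trans (pm_id P c)

theorem exactD_of_short {m : ℕ} (hi : ∀ m, Function.Injective (i.app (op (O U m))).hom)
    (hz : ∀ m x, (p.app (op (O U m))).hom ((i.app (op (O U m))).hom x) = 0)
    (hex : ∀ m y, (p.app (op (O U m))).hom y = 0 → ∃ x, (i.app (op (O U m))).hom x = y)
    (hP' : ExactD U P' m)
    (hQ : ∀ q : Q.obj (op (O U m)), D U Q m q = 0 →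
      ∃ e : P'.obj (op (O U m)), D U P' m e = 0 ∧ (p.app (op (O U m))).hom e = q) :
    ExactD U P m := by
  intro c hc
  obtain ⟨b', hb'⟩ := hP' ((i.app _).hom c) (by rw [← D_nat, hc, map_zero])
  obtain ⟨e, he, hq⟩ := hQ ((p.app _).hom b') (by rw [← D_nat, hb', hz])
  obtain ⟨b, hb⟩ := hex m (b' - e) (by rw [map_sub, hq, sub_self])
  exact ⟨b, hi (m + 1) (by rw [D_nat, hb, map_sub, he, hb', sub_zero])⟩

theorem hQ_succ {m : ℕ} (hp : ∀ m, Function.Surjective (p.app (op (O U m))).hom) (hQ : ExactD U Q m) :
    ∀ q : Q.obj (op (O U (m + 1))), D U Q (m + 1) q = 0 →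
      ∃ e : P'.obj (op (O U (m + 1))), D U P' (m + 1) e = 0 ∧ (p.app (op (O U (m + 1)))).hom e = q := by
  intro q hq
  obtain ⟨e, rfl⟩ := hQ q hq
  obtain ⟨e', rfl⟩ := hp m e
  exact ⟨D U P' m e', D_D U P' m e', D_nat U p m e'⟩

/-- `O(m+1) ≅ O(m) ⨯ U`. -/
def powSuccIso (m : ℕ) : O U (m + 1) ≅ O U m ⨯ U where
  hom := prod.lift (face U m 0) (π U 0)
  inv := Pi.lift (Fin.cases prod.snd fun j => prod.fst ≫ π U j)
  hom_inv_id := by
    refine Pi.hom_ext _ _ fun j => ?_
    induction j using Fin.cases with
    | zero => simp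
    | succ k => simp [face]
  inv_hom_id := by
    refine Limits.prod.hom_ext ?_ ?_
    · refine Pi.hom_ext _ _ fun j => ?_
      simp [face]
    · simp

end Generic

variable {R : CommRingCat.{u}} (B : Type u) [CommRing B] [Algebra R B]

theorem isAffine_O : ∀ m, IsAffine (O (covObj B : Over (Spec R)) m).left
  | 0 => by
    let t : IsTerminal (O (covObj B : Over (Spec R)) 0) := IsTerminal.ofUniqueHom
      (fun _ => Pi.lift fun i => i.elim0) (fun _ _ => Pi.hom_ext _ _ fun i => i.elim0)
    let e := t.uniqueUpToIso (Over.mkIdTerminal (X := Spec R))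
    have : IsIso e.hom.left := inferInstanceAs (IsIso ((Over.forget _).map e.hom))
    exact IsAffine.of_isIso (X := (O (covObj B : Over (Spec R)) 0).left) (Y := Spec R) e.hom.left
  | m + 1 => by
    have := isAffine_O m
    have := isAffine_prod (O (covObj B : Over (Spec R)) m) (covObj B)
    let e := powSuccIso (covObj B : Over (Spec R)) m
    have : IsIso e.hom.left := inferInstanceAs (IsIso ((Over.forget _).map e.hom))
    exact IsAffine.of_isIso e.hom.left

variable (G : Adeq.MVF R)

theorem injective_D_zero_push :
    Function.Injective (D (covObj B) (secPre ((Adeq.push R B).obj ((Adeq.restr R B).obj G))) 0) := by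
  refine injective_D_zero_of_mono (covObj B) (shiftMap B G) (fun m => ?_) (injective_D_zero_shift _ _)
  have := isAffine_O (R := R) B m
  exact (shiftMap_bijective B G _).1

theorem exactD_push (m : ℕ) : ExactD (covObj B) (secPre ((Adeq.push R B).obj ((Adeq.restr R B).obj G))) m := by
  refine exactD_of_bijective (covObj B) (shiftMap B G) (fun k => ?_) (exactD_shift _ _ m)
  have := isAffine_O (R := R) B k
  exact shiftMap_bijective B G _

variable [Module.FaithfullyFlat R B]

theorem descUnit_injective {G : Adeq.MVF R} (hG : Adeq.adequate R G) (C : Adeq.Alg R) :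
    Function.Injective ((descUnit B G).app (Adeq.pt C)) :=
  (injective_iff_map_eq_zero ((descUnit B G).app (Adeq.pt C)).hom).2 fun x hx =>
    eq_zero_of_family hG (fun _ : PUnit.{u + 1} => Adeq.Alg.unit R B C) (ffFam_punit B C) x fun _ => hx

theorem injective_D_zero {G : Adeq.MVF R} (hG : Adeq.adequate R G) :
    Function.Injective (D (covObj B) (secPre G) 0) :=
  injective_D_zero_of_mono (covObj B) (secPreMap (descUnit B G))
    (fun _ => descUnit_injective B hG _) (injective_D_zero_push B G)

theorem exactD_secPre : ∀ (m : ℕ) (G : Adeq.MVF R), Adeq.adequate R G → ExactD (covObj B) (secPre G) m := by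
  intro m
  induction m with
  | zero =>
    intro G hG
    let p := cokernel.π (descUnit B G)
    have hQ : Adeq.adequate R (cokernel (descUnit B G)) :=
      adequate_cokernel (covered_of_adequate hG) (adequate_push (adequate_restr hG)) _
    refine exactD_of_short (covObj B) (secPreMap (descUnit B G)) (secPreMap p)
      (fun _ => descUnit_injective B hG _) (fun k x => app_apply_of_comp_zero (cokernel.condition _) _ x)
      (fun k y hy => exists_of_cokernel_π_eq_zero _ _ y hy) (exactD_push B G 0)
      fun q hq => ⟨0, map_zero _, ?_⟩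
    exact (map_zero _).trans (injective_D_zero B hQ (hq.trans (map_zero _).symm)).symm
  | succ m ih =>
    intro G hG
    let p := cokernel.π (descUnit B G)
    have hQ : Adeq.adequate R (cokernel (descUnit B G)) :=
      adequate_cokernel (covered_of_adequate hG) (adequate_push (adequate_restr hG)) _
    exact exactD_of_short (covObj B) (secPreMap (descUnit B G)) (secPreMap p)
      (fun _ => descUnit_injective B hG _) (fun k x => app_apply_of_comp_zero (cokernel.condition _) _ x)
      (fun k y hy => exists_of_cokernel_π_eq_zero _ _ y hy) (exactD_push B G (m + 1))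
      (hQ_succ (covObj B) (secPreMap p) (fun _ => cokernel_π_surjective _ _) (ih _ hQ))

end Groth.Agent.AdeqAmitsur
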