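import Groth.Agent.AdeqAmitsur.Cech
import Groth.Agent.AdeqSite.Basic
import Groth.Agent.AdeqSite.Chart
import Mathlib.CategoryTheory.Limits.Constructions.Over.Products
import Mathlib.AlgebraicGeometry.Limits

/-!
# Global functions of schemes over an affine scheme and base change along `Spec B`
-/

set_option autoImplicit false
set_option backward.isDefEq.respectTransparency false
set_option linter.unusedSectionVars false

universe u

open CategoryTheory CategoryTheory.Limits AlgebraicGeometry Opposite TensorProduct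

noncomputable section

namespace Groth.Agent.AdeqAmitsur

open Groth.Agent.AdeqLib Groth.Agent.AdeqSite

variable {R : CommRingCat.{u}}

/-- The structure map of the global functions. -/
abbrev sMap (V : Over (Spec R)) : R ⟶ Γ(V.left, ⊤) := (Scheme.ΓSpecIso R).inv ≫ V.hom.appTop

/-- The algebra of global functions. -/
def gAlg (V : Over (Spec R)) : Adeq.Alg R :=
  letI : Algebra R Γ(V.left, ⊤) := (sMap V).hom.toAlgebra
  CommAlgCat.of R Γ(V.left, ⊤)

theorem gAlg_algebraMap (V : Over (Spec R)) : CommRingCat.ofHom (algebraMap R (gAlg V)) = sMap V := rfl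

theorem sMap_comp {V V' : Over (Spec R)} (f : V' ⟶ V) : sMap V ≫ f.left.appTop = sMap V' := by
  rw [Category.assoc, ← Scheme.Hom.comp_appTop, Over.w]

/-- Pullback of global functions. -/
def gHom {V V' : Over (Spec R)} (f : V' ⟶ V) : gAlg V ⟶ gAlg V' :=
  letI : Algebra R Γ(V.left, ⊤) := (sMap V).hom.toAlgebra
  letI : Algebra R Γ(V'.left, ⊤) := (sMap V').hom.toAlgebra
  CommAlgCat.ofHom { f.left.appTop.hom with commutes' := fun r => CategoryTheory.congr_fun (sMap_comp f) r }

theorem gHom_apply {V V' : Over (Spec R)} (f : V' ⟶ V) (x : Γ(V.left, ⊤)) :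
    (gHom f).hom x = f.left.appTop.hom x := rfl

theorem gHom_id (V : Over (Spec R)) : gHom (𝟙 V) = 𝟙 _ :=
  CommAlgCat.hom_ext (DFunLike.ext _ _ fun x => CategoryTheory.congr_fun (Scheme.Hom.id_appTop (X := V.left)) x)

theorem gHom_comp {V V' V'' : Over (Spec R)} (f : V' ⟶ V) (g : V'' ⟶ V') :
    gHom (g ≫ f) = gHom f ≫ gHom g :=
  CommAlgCat.hom_ext (DFunLike.ext _ _ fun x =>
    CategoryTheory.congr_fun (Scheme.Hom.comp_appTop g.left f.left) x)

/-- The presheaf `V ↦ G (Γ(V))`. -/
def secPre (G : Adeq.MVF R) : (Over (Spec R))ᵒᵖ ⥤ AddCommGrpCat.{u + 1} where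
  obj V := G.presheaf.obj (Adeq.pt (gAlg V.unop))
  map f := G.presheaf.map (Adeq.ptHom (gHom f.unop))
  map_id V := (congrArg (fun t => G.presheaf.map (Adeq.ptHom t)) (gHom_id V.unop)).trans (G.presheaf.map_id _)
  map_comp f g := (congrArg (fun t => G.presheaf.map (Adeq.ptHom t)) (gHom_comp f.unop g.unop)).trans
    (G.presheaf.map_comp (Adeq.ptHom (gHom f.unop)) (Adeq.ptHom (gHom g.unop)))

/-- Functoriality of `secPre`. -/
def secPreMap {G G' : Adeq.MVF R} (φ : G ⟶ G') : secPre G ⟶ secPre G' where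
  app V := ((PresheafOfModules.toPresheaf _).map φ).app (Adeq.pt (gAlg V.unop))
  naturality _ _ f := ((PresheafOfModules.toPresheaf _).map φ).naturality (Adeq.ptHom (gHom f.unop))

theorem secPreMap_apply {G G' : Adeq.MVF R} (φ : G ⟶ G') (V : Over (Spec R))
    (x : G.obj (Adeq.pt (gAlg V))) :
    ((secPreMap φ).app (op V)).hom x = φ.app (Adeq.pt (gAlg V)) x := rfl

section BaseChange

variable (B : Type u) [CommRing B] [Algebra R B]

/-- The object `Spec B`. -/
abbrev covObj : Over (Spec R) :=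
  Over.mk (X := Spec R) (Y := Spec (CommRingCat.of B)) (Spec.map (CommRingCat.ofHom (algebraMap R B)))

instance : IsAffine (covObj B : Over (Spec R)).left := inferInstanceAs (IsAffine (Spec (CommRingCat.of B)))

/-- `B` into the global functions of `Spec B`. -/
def toGamma : Adeq.algOf R B ⟶ gAlg (covObj B : Over (Spec R)) :=
  letI : Algebra R Γ((covObj B : Over (Spec R)).left, ⊤) := (sMap (covObj B : Over (Spec R))).hom.toAlgebra
  CommAlgCat.ofHom
    { (Scheme.ΓSpecIso (CommRingCat.of B)).inv.hom with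
      commutes' := fun r => (appTop_gamma (CommRingCat.ofHom (algebraMap R B)) r).symm }

/-- The base change of the global functions. -/
abbrev bGAlg (V : Over (Spec R)) : Adeq.Alg R := bcAlg (fun _ : PUnit.{u + 1} => B) PUnit.unit (gAlg V)

/-- `B ⊗ Γ(V) → Γ(V ×_R Spec B)`. -/
def cAlg (V : Over (Spec R)) : B ⊗[R] (gAlg V) →ₐ[R] gAlg (V ⨯ covObj B) :=
  Algebra.TensorProduct.lift (toGamma B ≫ gHom (prod.snd : V ⨯ covObj B ⟶ _)).hom
    (gHom (prod.fst : V ⨯ covObj B ⟶ V)).hom fun _ _ => .all _ _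

/-- `B ⊗ Γ(V) → Γ(V ×_R Spec B)` as a map of rings. -/
def cRing (V : Over (Spec R)) : B ⊗[R] (gAlg V) →+* gAlg (V ⨯ covObj B) := (cAlg B V).toRingHom

theorem cRing_algebraMap (V : Over (Spec R)) (r : R) :
    cRing B V (algebraMap R B r ⊗ₜ[R] (1 : gAlg V)) = algebraMap R (gAlg (V ⨯ covObj B)) r :=
  (cAlg B V).commutes r

/-- `B ⊗ Γ(V) → Γ(V ×_R Spec B)` as a map of algebras. -/
def cHom (V : Over (Spec R)) : bGAlg B V ⟶ gAlg (V ⨯ covObj B) :=
  letI : Algebra R (B ⊗[R] (gAlg V)) := ((algebraMap B (B ⊗[R] (gAlg V))).comp (algebraMap R B)).toAlgebra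
  CommAlgCat.ofHom (R := (R : Type u)) (X := B ⊗[R] (gAlg V)) (Y := (gAlg (V ⨯ covObj B) : Type u))
    { cRing B V with commutes' := cRing_algebraMap B V }

theorem cHom_tmul (V : Over (Spec R)) (b : B) (x : gAlg V) :
    (cHom B V).hom (b ⊗ₜ[R] x) =
      (toGamma B ≫ gHom (prod.snd : V ⨯ covObj B ⟶ _)).hom b * (gHom (prod.fst : V ⨯ covObj B ⟶ V)).hom x :=
  Algebra.TensorProduct.lift_tmul (toGamma B ≫ gHom (prod.snd : V ⨯ covObj B ⟶ _)).hom
    (gHom (prod.fst : V ⨯ covObj B ⟶ V)).hom (fun _ _ => .all _ _) b x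

theorem cHom_nat {V V' : Over (Spec R)} (f : V' ⟶ V) :
    bcMap (fun _ : PUnit.{u + 1} => B) PUnit.unit (gHom f) ≫ cHom B V' =
      cHom B V ≫ gHom (prod.map f (𝟙 (covObj B))) := by
  refine CommAlgCat.hom_ext (DFunLike.ext _ _ fun y => ?_)
  induction y using TensorProduct.induction_on with
  | zero => rw [map_zero, map_zero]
  | add x y hx hy => rw [map_add, map_add, hx, hy]
  | tmul b x =>
    change (cHom B V').hom (b ⊗ₜ[R] (gHom f).hom x) = (gHom _).hom ((cHom B V).hom (b ⊗ₜ[R] x))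
    rw [cHom_tmul, cHom_tmul, map_mul]
    congr 1
    · change ((toGamma B ≫ gHom prod.snd) : _ ⟶ gAlg (V' ⨯ covObj B)).hom b =
        ((toGamma B ≫ gHom prod.snd) ≫ gHom (prod.map f (𝟙 (covObj B)))).hom b
      rw [Category.assoc, ← gHom_comp, prod.map_snd, Category.comp_id]
    · change (gHom f ≫ gHom prod.fst).hom x = (gHom prod.fst ≫ gHom (prod.map f (𝟙 (covObj B)))).hom x
      rw [← gHom_comp, ← gHom_comp, prod.map_fst]

theorem isAffine_prod (V W : Over (Spec R)) [IsAffine V.left] [IsAffine W.left] : IsAffine (V ⨯ W).left :=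
  IsAffine.of_isIso (Over.prodLeftIsoPullback V W).hom

theorem isPushout_appTop {P X Y Z : Scheme.{u}} {f : X ⟶ Z} {g : Y ⟶ Z} {p : P ⟶ X} {q : P ⟶ Y}
    [IsAffine P] [IsAffine X] [IsAffine Y] [IsAffine Z] (h : IsPullback p q f g) :
    IsPushout f.appTop g.appTop p.appTop q.appTop := by
  have h1 : IsPullback (Spec.map p.appTop) (Spec.map q.appTop) (Spec.map f.appTop) (Spec.map g.appTop) :=
    IsPullback.of_iso h (asIso P.toSpecΓ) (asIso X.toSpecΓ) (asIso Y.toSpecΓ) (asIso Z.toSpecΓ)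
      (Scheme.toSpecΓ_naturality p) (Scheme.toSpecΓ_naturality q) (Scheme.toSpecΓ_naturality f)
      (Scheme.toSpecΓ_naturality g)
  have h2 : IsPullback p.appTop.op q.appTop.op f.appTop.op g.appTop.op :=
    IsPullback.of_map_of_faithful Scheme.Spec h1
  exact h2.unop.flip

theorem isIso_cHom (V : Over (Spec R)) [IsAffine V.left] : IsIso (cHom B V) := by
  have := isAffine_prod V (covObj B)
  have hP : IsPullback (prod.fst : V ⨯ covObj B ⟶ V).left (prod.snd : V ⨯ covObj B ⟶ _).left V.hom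
      (covObj B : Over (Spec R)).hom :=
    Over.isPullback_of_binaryFan_isLimit (BinaryFan.mk (prod.fst : V ⨯ covObj B ⟶ V) prod.snd)
      (prodIsProd V (covObj B))
  have h := isPushout_appTop hP
  have h' : IsPushout (CommRingCat.ofHom (algebraMap R (gAlg V))) (CommRingCat.ofHom (algebraMap R B))
      (specHom (gHom (prod.fst : V ⨯ covObj B ⟶ V)))
      (specHom (toGamma B ≫ gHom (prod.snd : V ⨯ covObj B ⟶ _))) := by
    refine IsPushout.of_iso h (Scheme.ΓSpecIso R) (Iso.refl _) (Scheme.ΓSpecIso (CommRingCat.of B)) (Iso.refl _)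
      ?_ ?_ ?_ ?_
    · rw [Iso.refl_hom, Category.comp_id, gAlg_algebraMap, Iso.hom_inv_id_assoc]
    · exact Scheme.ΓSpecIso_naturality (CommRingCat.ofHom (algebraMap R B))
    · exact (Category.comp_id _).trans (Category.id_comp _).symm
    · refine (Category.comp_id _).trans ?_
      exact ((Scheme.ΓSpecIso (CommRingCat.of B)).hom_inv_id_assoc _).symm
  let e := (isPushout_unit B (gAlg V)).isoIsPushout _ _ h'
  have he : specHom (cHom B V) = e.hom := by
    refine (isPushout_unit B (gAlg V)).hom_ext ?_ ?_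
    · rw [IsPushout.inl_isoIsPushout_hom]
      refine CommRingCat.hom_ext (RingHom.ext fun x => ?_)
      change (cHom B V).hom ((1 : B) ⊗ₜ[R] x) = _
      rw [cHom_tmul, map_one, one_mul]
      rfl
    · rw [IsPushout.inr_isoIsPushout_hom]
      refine CommRingCat.hom_ext (RingHom.ext fun b => ?_)
      change (cHom B V).hom (b ⊗ₜ[R] (1 : gAlg V)) = _
      rw [cHom_tmul, map_one, mul_one]
      rfl
  refine (ConcreteCategory.isIso_iff_bijective _).2 ?_
  change Function.Bijective (specHom (cHom B V)).hom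
  rw [he]
  exact ConcreteCategory.bijective_of_isIso e.hom

theorem presheaf_comp (G : Adeq.MVF R) {C C' C'' : Adeq.Alg R} (h : C ⟶ C') (h' : C' ⟶ C'') :
    G.presheaf.map (Adeq.ptHom h) ≫ G.presheaf.map (Adeq.ptHom h') = G.presheaf.map (Adeq.ptHom (h ≫ h')) :=
  (G.presheaf.map_comp (Adeq.ptHom h) (Adeq.ptHom h')).symm

set_option maxHeartbeats 1000000 in
/-- `G(B ⊗ Γ V) → G(Γ(V ×_R Spec B))`. -/
def shiftMap (G : Adeq.MVF R) :
    secPre ((Adeq.push R B).obj ((Adeq.restr R B).obj G)) ⟶ shift (covObj B) (secPre G) where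
  app V := G.presheaf.map (Adeq.ptHom (cHom B V.unop))
  naturality _ _ f := (presheaf_comp G _ _).trans
    ((congrArg (fun t => G.presheaf.map (Adeq.ptHom t)) (cHom_nat B f.unop)).trans (presheaf_comp G _ _).symm)

theorem shiftMap_bijective (G : Adeq.MVF R) (V : Over (Spec R)) [IsAffine V.left] :
    Function.Bijective ((shiftMap B G).app (op V)).hom := by
  have := isIso_cHom B V
  have : IsIso (Adeq.ptHom (cHom B V)) := inferInstanceAs (IsIso (cHom B V).op.op)
  exact ConcreteCategory.bijective_of_isIso (G.presheaf.map (Adeq.ptHom (cHom B V)))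

end BaseChange

end Groth.Agent.AdeqAmitsur
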